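import Mathlib

/-!
Tables for a double cover of the Mathieu group of degree 12: seven generators (the central element
and lifts of six strong generators) on 24 points, five bits per image, their projections as coded
permutations of the 24 code positions, and the coset relations along the chain of point stabilisers.
-/

set_option autoImplicit false

namespace Cfsg.Agent.Lib.SchurTwelve

/-- The generators of the cover. -/
def fwd : List ℕ := [944538608299847986500403370965142529,384689551212465174062774785518176257,899061436078898017740278206534092832,944370908074811644589412493577783328,898687114001405275438619900262812704,984443840595186341641848760173252640,384231318684165057869699515218969334]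

/-- Their inverses. -/
def bwd : List ℕ := [944538608299847986500403370965142529,727548146778933516221136189893216257,556537500270266271991371073242368032,944203785292605638515691260853979168,516296545744954511892654120040991776,984065057778822820723799573691309088,42041878625736615078611586794475157]

/-- The projections. -/
def down : List ℕ := [984818244535754528103549039458486304,227578386318009578406903204956702752,715872302521680643580706198532491296,424698032726113400716592269113985056,228124323059048585101052863731348512,230393261269155861637780542274449920,970369545836976440346720869766564242]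

/-- The base points, from the last to the first. -/
def basePts : List ℕ := [0,4,3,2,1,0]

/-- The orbit of each base point. -/
def orbits : List (List ℕ) := [[], [4,18,6,12,8,16,13,9], [3,4,18,6,13,12,8,16,9], [2,13,4,16,9,18,6,3,8,12], [1,3,4,9,6,18,13,8,12,16,2], [0,16,9,18,8,1,4,3,6,12,13,2]]

/-- Transversal words. -/
def trans : List (List (List ℕ)) := [[[]],
  [[], [1], [2], [1,1], [1,2], [2,1], [1,1,1], [1,1,2]],
  [[], [3], [3,1], [3,2], [3,3], [3,1,1], [3,1,2], [3,2,1], [3,3,3]],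
  [[], [4], [4,1], [4,2], [4,3], [4,1,1], [4,1,2], [4,1,4], [4,2,3], [4,1,1,1]],
  [[], [5], [5,3], [5,4], [5,5], [5,3,1], [5,3,3], [5,4,1], [5,4,5], [5,5,1], [5,3,3,4]],
  [[], [6], [6,1], [6,2], [6,3], [6,5], [6,1,2], [6,1,3], [6,1,4], [6,1,5], [6,3,2], [6,1,5,5]]]

/-- The relations. -/
def rels : List (List (List (List ℕ × ℕ))) := [[],
  [[([0], 0), ([], 1), ([], 2)],
    [([0], 1), ([], 3), ([], 4)],
    [([0], 2), ([], 5), ([], 3)],
    [([0], 3), ([], 6), ([], 7)],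
    [([0], 4), ([], 2), ([], 6)],
    [([0], 5), ([], 7), ([], 1)],
    [([0], 6), ([], 0), ([], 5)],
    [([0], 7), ([], 4), ([], 0)]],
  [[([0], 0), ([1], 0), ([2], 0), ([], 1)],
    [([0], 1), ([], 2), ([], 3), ([], 4)],
    [([0], 2), ([], 5), ([], 6), ([2], 2)],
    [([0], 3), ([], 7), ([], 5), ([1,1], 5)],
    [([0], 4), ([2,1], 1), ([2,1], 7), ([], 8)],
    [([0], 5), ([1,2], 4), ([2], 8), ([1,1,1], 7)],
    [([0], 6), ([], 3), ([1,2], 4), ([1,2], 3)],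
    [([0], 7), ([2], 8), ([], 2), ([1,1,2], 6)],
    [([0], 8), ([1,1,2], 6), ([1,1,2], 1), ([], 0)]],
  [[([0], 0), ([1], 0), ([2], 0), ([3], 0), ([], 1)],
    [([0], 1), ([], 2), ([], 3), ([], 4), ([2,3,2], 0)],
    [([0], 2), ([], 5), ([], 6), ([1,3,2,3,2], 1), ([], 7)],
    [([0], 3), ([1,1,1,3,3,2], 4), ([], 5), ([], 8), ([0,1,1,1,3], 5)],
    [([0], 4), ([3,1,2], 8), ([1,3], 2), ([0,1,1,3,3,2], 7), ([0,3,3,2], 6)],
    [([0], 5), ([], 9), ([3,2,3], 8), ([3,2,3], 5), ([0,1,3,3,3], 8)],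
    [([0], 6), ([], 3), ([], 9), ([1,2,3,1], 9), ([0,1,1,3,3], 3)],
    [([0], 7), ([1,2,3,3], 7), ([1,1,3], 7), ([0,1,1,1,3,3,3], 2), ([1,3], 4)],
    [([0], 8), ([2,3,2], 6), ([2,3,2], 1), ([1,1,1,3,3,2], 6), ([0,1,1,2,3,3], 9)],
    [([0], 9), ([], 1), ([1,1,1,3,3,2], 4), ([1,1,1,3,3,2], 3), ([0,1,3,2,3], 2)]],
  [[([0], 0), ([1], 0), ([2], 0), ([3], 0), ([4], 0), ([], 1)],
    [([0], 1), ([3,4,3,2,1,3], 1), ([0,2,3,4,1,4], 1), ([], 2), ([], 3), ([], 4)],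
    [([0], 2), ([], 5), ([0,2,4,2,3,1], 4), ([], 6), ([4,2,3,4], 1), ([0,1,3,2,3], 6)],
    [([0], 3), ([], 7), ([0,4,4,1,4], 2), ([0,1,4,4], 1), ([3,4,1,3,1], 4), ([], 8)],
    [([0], 4), ([], 9), ([1,4,1,3,1,1], 8), ([0,2,1,4,2,3,4], 8), ([4,2,1], 9), ([0,4,1,4,1], 7)],
    [([0], 5), ([3,4,2,3], 8), ([0,4,1,2,4,4], 7), ([0,2,3,4,1,4], 5), ([0,2,1,3], 7), ([1,2,3,4,1,4], 5)],
    [([0], 6), ([3,4,3,4,1,3], 2), ([1,4,4,3], 9), ([0,1,1,3,1], 3), ([], 10), ([3,2,4,3,1,1], 3)],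
    [([0], 7), ([0,2,1,3,4,2], 4), ([0,2,4,3,3,3], 6), ([0,1,4,1,1,1], 4), ([1,2,4,2,3,4], 8), ([3,4,2,1,3,1], 9)],
    [([0], 8), ([0,2,3,4,3,2,4], 6), ([3,2,4,3,1,1], 3), ([0,3,2,4,1,1], 9), ([3,1,4,1,3,3], 2), ([2,3,3,4,2,4], 10)],
    [([0], 9), ([2,4,2,4,2], 3), ([0,1,3,2,4,2,3], 5), ([3,1,4,2,3,1], 7), ([0,1,1,4,1,3], 5), ([0,2,1,3,1,4], 0)],
    [([0], 10), ([4,3,2,1,4], 10), ([2,1,4,2,1], 10), ([1,1,4,3], 10), ([0,2,3,4,1,4], 6), ([0,1,3,2,4,2,3], 2)]],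
  [[([0], 0), ([1], 0), ([2], 0), ([3], 0), ([4], 0), ([5], 0), ([], 1)],
    [([0], 1), ([], 2), ([], 3), ([], 4), ([2,5,4,2,5,4], 3), ([], 5), ([2,5,3,4,2], 4)],
    [([0], 2), ([0,5,5,3,5,5], 4), ([], 6), ([], 7), ([], 8), ([], 9), ([0,2,1,5,1,1,5,5], 9)],
    [([0], 3), ([2,4,2,1,5,4], 9), ([0,5,5,3,5,5], 4), ([0,5,5,3,5,5], 3), ([2,5,3,1,1,4], 4), ([0,4,2,5,1,5,2], 3), ([4,5,4,2,1,4], 0)],
    [([0], 4), ([2,5,4,3,5,5], 8), ([], 10), ([0,1,3,4,3], 8), ([0,5,3,2,5,2], 9), ([2,5,2,3,3,3], 1), ([5,3,4,3,3,2], 6)],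
    [([0], 5), ([1,1,3,5,3,4,5], 5), ([1,5,4,5,4,3,4,1], 5), ([0,5,5,2,3,1,4,3], 5), ([3,5,1,3,4,3,3], 5), ([0,4,2,5,4,4,4], 7), ([5,5,5,3,4], 10)],
    [([0], 6), ([], 3), ([2,3,1,4,5], 8), ([0,2,3,5,5,4], 10), ([0,2,5,2,4,5,4], 7), ([4,3,4,4,5,3], 10), ([1,4,5,1,3,2,5], 3)],
    [([0], 7), ([5,3,3,4,3,1,4], 7), ([0,5,5,3,5,5], 7), ([0,5,5,3,5,5], 6), ([4,5,1,3,5,4,2], 2), ([1,1,2,4,5,3,3], 8), ([0,4,3,5,5,3,1], 2)],
    [([0], 8), ([0,5,4,5,4,3], 1), ([5,5,1,4,1], 9), ([3,5,2,5,2,5], 9), ([1,3,1,5,3,4], 1), ([0,4,2,5,4,4,4], 4), ([0,1,5,5,2,5,1,4], 8)],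
    [([0], 9), ([0,2,3,1,4,3], 10), ([0,1,3,1,5,3,2], 2), ([0,3,2,1,4,2,5], 1), ([0,5,2,5,3,5,2], 6), ([], 11), ([0,3,4,2,5,5,3], 5)],
    [([0], 10), ([4,2,4,3,5,1,5], 6), ([4,2,4,3,5,1,5], 1), ([2,5,2,3,5,3], 2), ([4,2,4,5,1,5], 11), ([2,5,2,3,3,5], 2), ([0,4,3,2,5,4,1], 7)],
    [([0], 11), ([5,4,3,4,2,3], 11), ([0,3,5,4,5,4], 11), ([0,4,1,1,4,5,5], 11), ([3,2,5,2,3,5], 10), ([3,2,5,3,5,2], 6), ([1,4,2,5,3,5,5], 11)]]]

/-- Lifts of two commuting elements with nontrivial commutator. -/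
def commA : List ℕ := [1,6,6,5,5,6,5]

/-- The second one. -/
def commB : List ℕ := [1,2,6,6,5,1,6,5]

end Cfsg.Agent.Lib.SchurTwelve
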